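import Groth.Agent.ResProp.EF.Grp
import Groth.Agent.S3021
import Mathlib.RingTheory.Flat.Basic
import Mathlib.LinearAlgebra.TensorProduct.RightExactness

/-!
# Equivariant covers (980, 2.3 and 4.1)

* `subG N W hW` : the comodule structure on a subcomodule `W` of a module `N` over the group `E` (`O(E)` free over `k`);
* `isSubcomod_eq` : the equalizer of two linear maps `a b : N → N'` compatible with some map `τ : N' → N' ⊗ O(E)` is a
  subcomodule (`N' = N ⊗_R Γ`, `a` the `Γ`-coaction, `b = (· ⊗ 1)`);
* `exists_free_cover` : finitely many elements of a subcomodule `N₀` are in the image of a morphism `V → N` with values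
  in `N₀`, `V` finite free over `k` (from `Grp.SerreCover`);
* `exists_equivariant_cover` : the module form, `D · f(V) = N`.
-/

set_option autoImplicit false

universe u w

open TensorProduct

noncomputable section

namespace Groth.Agent.ResProp.EF.K534

open Grp

variable {k : Type u} [CommRing k] {E : Gp k}

section Sub

variable (N : GMod E) (W : Submodule k N.V)

/-- `W ⊗ O → N ⊗ O` is injective. -/
theorem sub_inj : Function.Injective (W.subtype.rTensor E.O) :=
  Module.Flat.rTensor_preserves_injective_linearMap _ W.injective_subtype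

variable (hW : HopfRep.IsSubcomod (k := k) (A := E.O) W)

/-- the coaction of a subcomodule -/
def subCoact : W →ₗ[k] W ⊗[k] E.O :=
  (LinearEquiv.ofInjective (W.subtype.rTensor E.O) (sub_inj N W)).symm.toLinearMap ∘ₗ
    LinearMap.codRestrict (LinearMap.range (W.subtype.rTensor E.O))
      ((HopfRep.Comod.coact (k := k) (A := E.O) (V := N.V)) ∘ₗ W.subtype) fun x => hW x x.2

theorem rTensor_subCoact (x : W) : W.subtype.rTensor E.O (subCoact N W hW x) =
    HopfRep.Comod.coact (k := k) (A := E.O) (x : N.V) := by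
  have h := (LinearEquiv.ofInjective (W.subtype.rTensor E.O) (sub_inj N W)).apply_symm_apply
    (LinearMap.codRestrict (LinearMap.range (W.subtype.rTensor E.O))
      ((HopfRep.Comod.coact (k := k) (A := E.O) (V := N.V)) ∘ₗ W.subtype) (fun x => hW x x.2) x)
  exact congrArg Subtype.val h

theorem rTensor_comp_subCoact : W.subtype.rTensor E.O ∘ₗ subCoact N W hW =
    HopfRep.Comod.coact (k := k) (A := E.O) ∘ₗ W.subtype :=
  LinearMap.ext fun x => rTensor_subCoact N W hW x

/-- the module structure on a subcomodule -/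
@[reducible] def subComod : HopfRep.Comod k E.O W where
  coact := subCoact N W hW
  coassoc := by
    have hinj : Function.Injective (W.subtype.rTensor (E.O ⊗[k] E.O)) :=
      Module.Flat.rTensor_preserves_injective_linearMap _ W.injective_subtype
    refine LinearMap.ext fun x => hinj ?_
    have h1 : W.subtype.rTensor (E.O ⊗[k] E.O) ∘ₗ (TensorProduct.assoc k W E.O E.O).toLinearMap =
        (TensorProduct.assoc k N.V E.O E.O).toLinearMap ∘ₗ (W.subtype.rTensor E.O).rTensor E.O := by
      refine TensorProduct.ext_threefold fun a b c => ?_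
      simp
    have h2 : W.subtype.rTensor (E.O ⊗[k] E.O) ∘ₗ (CoalgebraStruct.comul (R := k) (A := E.O)).lTensor W =
        (CoalgebraStruct.comul (R := k) (A := E.O)).lTensor N.V ∘ₗ W.subtype.rTensor E.O := by
      rw [LinearMap.lTensor_comp_rTensor, LinearMap.rTensor_comp_lTensor]
    have h3 := LinearMap.congr_fun h1 ((subCoact N W hW).rTensor E.O (subCoact N W hW x))
    have h4 := LinearMap.congr_fun h2 (subCoact N W hW x)
    simp only [LinearMap.comp_apply] at h3 h4 ⊢
    rw [h3, h4, rTensor_subCoact]
    have h5 : (W.subtype.rTensor E.O).rTensor E.O ((subCoact N W hW).rTensor E.O (subCoact N W hW x)) =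
        (HopfRep.Comod.coact (k := k) (A := E.O) (V := N.V)).rTensor E.O
          (HopfRep.Comod.coact (k := k) (A := E.O) (x : N.V)) := by
      rw [← LinearMap.comp_apply, ← LinearMap.rTensor_comp, rTensor_comp_subCoact, LinearMap.rTensor_comp,
        LinearMap.comp_apply, rTensor_subCoact]
    rw [h5]
    exact LinearMap.congr_fun (HopfRep.Comod.coassoc (k := k) (A := E.O) (V := N.V)) (x : N.V)
  counit_comp := by
    have hinj : Function.Injective (W.subtype.rTensor k) :=
      Module.Flat.rTensor_preserves_injective_linearMap _ W.injective_subtype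
    refine LinearMap.ext fun x => hinj ?_
    have h2 : W.subtype.rTensor k ∘ₗ (CoalgebraStruct.counit (R := k) (A := E.O)).lTensor W =
        (CoalgebraStruct.counit (R := k) (A := E.O)).lTensor N.V ∘ₗ W.subtype.rTensor E.O := by
      rw [LinearMap.lTensor_comp_rTensor, LinearMap.rTensor_comp_lTensor]
    have h4 := LinearMap.congr_fun h2 (subCoact N W hW x)
    simp only [LinearMap.comp_apply] at h4 ⊢
    rw [h4, rTensor_subCoact]
    have := LinearMap.congr_fun (HopfRep.Comod.counit_comp (k := k) (A := E.O) (V := N.V)) (x : N.V)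
    simp only [LinearMap.comp_apply] at this
    rw [this]
    simp

/-- a subcomodule as a module over the group -/
@[reducible] def subG : GMod E where
  V := W
  co := subComod N W hW

theorem isComodHom_subtype : letI := subComod N W hW; Hoch.IsComodHom E.O W.subtype := by
  change HopfRep.Comod.coact (k := k) (A := E.O) ∘ₗ W.subtype = W.subtype.rTensor E.O ∘ₗ subCoact N W hW
  rw [rTensor_comp_subCoact]

end Sub

/-- the equalizer of two maps compatible with the coaction is a subcomodule -/
theorem isSubcomod_eq (N : GMod E) {N' : Type w} [AddCommGroup N'] [Module k N'] (a b : N.V →ₗ[k] N')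
    (h : ∀ x : N.V, a x = b x → a.rTensor E.O (HopfRep.Comod.coact (k := k) (A := E.O) x) =
      b.rTensor E.O (HopfRep.Comod.coact (k := k) (A := E.O) x)) :
    HopfRep.IsSubcomod (k := k) (A := E.O) (LinearMap.eqLocus a b) := by
  intro x hx
  have hx' : (a - b).rTensor E.O (HopfRep.Comod.coact (k := k) (A := E.O) x) = 0 := by
    rw [LinearMap.rTensor_sub, LinearMap.sub_apply, h x hx, sub_self]
  have hex : Function.Exact (LinearMap.ker (a - b)).subtype (a - b) := by
    intro y
    simp
  obtain ⟨z, hz⟩ := (Module.Flat.rTensor_exact E.O hex _).1 hx'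
  have hle : LinearMap.ker (a - b) ≤ LinearMap.eqLocus a b := by
    intro y hy
    have hy' : a y - b y = 0 := hy
    exact sub_eq_zero.1 hy'
  refine ⟨(Submodule.inclusion hle).rTensor E.O z, ?_⟩
  rw [← LinearMap.comp_apply, ← LinearMap.rTensor_comp, Submodule.subtype_comp_inclusion, hz]

/-- the form with a map `τ : N' → N' ⊗ O` -/
theorem isSubcomod_eq' (N : GMod E) {N' : Type w} [AddCommGroup N'] [Module k N'] (a b : N.V →ₗ[k] N')
    (τ : N' →ₗ[k] N' ⊗[k] E.O)
    (ha : τ ∘ₗ a = a.rTensor E.O ∘ₗ HopfRep.Comod.coact (k := k) (A := E.O) (V := N.V))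
    (hb : τ ∘ₗ b = b.rTensor E.O ∘ₗ HopfRep.Comod.coact (k := k) (A := E.O) (V := N.V)) :
    HopfRep.IsSubcomod (k := k) (A := E.O) (LinearMap.eqLocus a b) :=
  isSubcomod_eq N a b fun x hx => by
    have h1 := LinearMap.congr_fun ha x
    have h2 := LinearMap.congr_fun hb x
    simp only [LinearMap.comp_apply] at h1 h2
    rw [← h1, ← h2, hx]

/-- **Equivariant covers**: finitely many elements of a subcomodule `N₀` come from a finite free module `V → N` with
values in `N₀`. -/
theorem exists_free_cover (hS : SerreCover E) (N : GMod E) (N₀ : Submodule k N.V)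
    (h₀ : HopfRep.IsSubcomod (k := k) (A := E.O) N₀) (s : Set N.V) (hs : s.Finite) (hsN : s ⊆ N₀) :
    ∃ (V : GMod E) (_ : Module.Free k V.V) (_ : Module.Finite k V.V) (f : V.V →ₗ[k] N.V),
      Hoch.IsComodHom E.O f ∧ LinearMap.range f ≤ N₀ ∧ s ⊆ (LinearMap.range f : Set N.V) := by
  obtain ⟨W, hW, hsW, hmin, hfg⟩ := Groth.Agent.S3021.result k E.O N.V (Submodule.span k s)
  have hWN : W ≤ N₀ := hmin N₀ h₀ (Submodule.span_le.2 hsN)
  have hWfg : W.FG := hfg (Submodule.fg_span hs)
  have : Module.Finite k W := Module.Finite.iff_fg.2 hWfg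
  obtain ⟨V, hfree, hfin, q, hq, hqs⟩ := hS (subG N W hW) this
  refine ⟨V, hfree, hfin, W.subtype ∘ₗ q, ?_, ?_, ?_⟩
  · have h1 := isComodHom_subtype N W hW
    unfold Hoch.IsComodHom at hq h1 ⊢
    rw [← LinearMap.comp_assoc, h1, LinearMap.comp_assoc, hq, ← LinearMap.comp_assoc, ← LinearMap.rTensor_comp]
  · rintro _ ⟨x, rfl⟩
    exact hWN (q x).2
  · intro x hx
    obtain ⟨y, hy⟩ := hqs ⟨x, hsW (Submodule.subset_span hx)⟩
    exact ⟨y, by simp [hy]⟩

/-- **Equivariant covers**, module form: `N` a finite `D`-module spanned over `D` by the subcomodule `N₀` (the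
`Γ`-invariants). -/
theorem exists_equivariant_cover (hS : SerreCover E) (N : GMod E) (N₀ : Submodule k N.V)
    (h₀ : HopfRep.IsSubcomod (k := k) (A := E.O) N₀) {D : Type w} [CommRing D] [Module D N.V] [Module.Finite D N.V]
    (hspan : Submodule.span D (N₀ : Set N.V) = ⊤) :
    ∃ (V : GMod E) (_ : Module.Free k V.V) (_ : Module.Finite k V.V) (f : V.V →ₗ[k] N.V),
      Hoch.IsComodHom E.O f ∧ LinearMap.range f ≤ N₀ ∧
        Submodule.span D (LinearMap.range f : Set N.V) = ⊤ := by
  have hfg : (Submodule.span D (N₀ : Set N.V)).FG := by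
    rw [hspan]
    exact Module.Finite.fg_top
  obtain ⟨s, hsN, hs⟩ := (Submodule.fg_span_iff_fg_span_finset_subset (N₀ : Set N.V)).1 hfg
  obtain ⟨V, h1, h2, f, hf, hr, hsf⟩ := exists_free_cover hS N N₀ h₀ (s : Set N.V) s.finite_toSet hsN
  refine ⟨V, h1, h2, f, hf, hr, top_le_iff.1 ?_⟩
  rw [← hspan, hs]
  exact Submodule.span_mono hsf

/-- matrix coefficients of a finite free module -/
theorem exists_coeff (V : GMod E) {r : ℕ} (b : Module.Basis (Fin r) k V.V) :
    ∃ c : Fin r → Fin r → E.O,
      (∀ i, HopfRep.Comod.coact (k := k) (A := E.O) (b i) = ∑ j, b j ⊗ₜ[k] c j i) ∧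
      (∀ i j, CoalgebraStruct.comul (R := k) (c j i) = ∑ l, c j l ⊗ₜ[k] c l i) ∧
      (∀ i j, CoalgebraStruct.counit (R := k) (c j i) = if i = j then 1 else 0) := by
  classical
  let c : Fin r → Fin r → E.O := fun j i =>
    TensorProduct.equivFinsuppOfBasisLeft b (HopfRep.Comod.coact (k := k) (A := E.O) (b i)) j
  have hc : ∀ i, HopfRep.Comod.coact (k := k) (A := E.O) (b i) = ∑ j, b j ⊗ₜ[k] c j i := by
    intro i
    have h := (TensorProduct.equivFinsuppOfBasisLeft (N := E.O) b).symm_apply_apply
      (HopfRep.Comod.coact (k := k) (A := E.O) (b i))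
    rw [← h, TensorProduct.equivFinsuppOfBasisLeft_symm_apply, Finsupp.sum_fintype _ _ (by simp)]
  refine ⟨c, hc, ?_, ?_⟩
  · intro i j
    have h := LinearMap.congr_fun (HopfRep.Comod.coassoc (k := k) (A := E.O) (V := V.V)) (b i)
    simp only [LinearMap.comp_apply, hc, map_sum, LinearMap.rTensor_tmul, TensorProduct.sum_tmul,
      LinearEquiv.coe_coe, TensorProduct.assoc_tmul, LinearMap.lTensor_tmul] at h
    have h' := congrArg (fun z => TensorProduct.equivFinsuppOfBasisLeft (N := E.O ⊗[k] E.O) b z j) h
    simp only [map_sum, TensorProduct.equivFinsuppOfBasisLeft_apply_tmul_apply, Finsupp.coe_finsetSum,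
      Finset.sum_apply, Module.Basis.repr_self, Finsupp.single_apply, ite_smul, one_smul, zero_smul,
      Finset.sum_ite_eq', Finset.mem_univ, if_true] at h'
    exact h'.symm
  · intro i j
    have h := LinearMap.congr_fun (HopfRep.Comod.counit_comp (k := k) (A := E.O) (V := V.V)) (b i)
    simp only [LinearMap.comp_apply, hc, map_sum, LinearMap.lTensor_tmul, LinearMap.flip_apply,
      TensorProduct.mk_apply] at h
    have h' := congrArg (fun z => TensorProduct.equivFinsuppOfBasisLeft (N := k) b z j) h
    simp only [map_sum, TensorProduct.equivFinsuppOfBasisLeft_apply_tmul_apply, Finsupp.coe_finsetSum,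
      Finset.sum_apply, Module.Basis.repr_self, Finsupp.single_apply, ite_smul, one_smul, zero_smul,
      Finset.sum_ite_eq', Finset.mem_univ, if_true] at h'
    exact h'

end Groth.Agent.ResProp.EF.K534
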